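import Groth.Agent.Lib.FlatDescD9.PC

/-!
Perfectness descends along flat surjective quasi-compact morphisms.
-/

set_option autoImplicit false
set_option linter.unusedSectionVars false
set_option linter.style.haveILetI false
set_option backward.isDefEq.respectTransparency false
set_option backward.isDefEq.respectTransparency.types false

universe u

open CategoryTheory CategoryTheory.Limits CategoryTheory.Pretriangulated AlgebraicGeometry

attribute [local instance] HasDerivedCategory.standard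

namespace Groth.Agent.FlatDescD9

open KFlat KFlat.Sch DPerf

variable {X Y : Scheme.{u}} (f : Y ⟶ X) [Flat f]

theorem flatAmplitude_mono {K : DCoh.D X} {a b a' b' : ℤ} (ha : a' ≤ a) (hb : b ≤ b')
    (h : DCoh.HasFlatAmplitudeIn a b K) : DCoh.HasFlatAmplitudeIn a' b' K := by
  obtain ⟨F, hF, hflat, e⟩ := h
  exact ⟨F, fun i hi => hF i (by omega), hflat, e⟩

theorem flatAmplitude_of_iso {K L : DCoh.D X} (e : K ≅ L) {a b : ℤ}
    (h : DCoh.HasFlatAmplitudeIn a b K) : DCoh.HasFlatAmplitudeIn a b L := by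
  obtain ⟨F, hF, hflat, ⟨e'⟩⟩ := h
  exact ⟨F, hF, hflat, ⟨e' ≪≫ e⟩⟩

theorem exists_flatAmplitude_of_compact [CompactSpace X] {K : DCoh.D X} (hK : DCoh.IsPerfect K) :
    ∃ a b : ℤ, DCoh.HasFlatAmplitudeIn a b K := by
  choose V a b hxV hab hV using fun x => exists_flatAmplitude_of_isPerfect hK x
  obtain ⟨s, hs⟩ := isCompact_univ.elim_finite_subcover (fun x => (V x : Set X)) (fun x => (V x).2)
    fun x _ => Set.mem_iUnion.2 ⟨x, hxV x⟩
  obtain ⟨A, hA⟩ := (s.image a).bddBelow
  obtain ⟨B, hB⟩ := (s.image b).exists_le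
  refine ⟨A, B, DQC.flatAmplitude_of_locally fun x => ?_⟩
  obtain ⟨y, hy, hxy⟩ := Set.mem_iUnion₂.1 (hs (Set.mem_univ x))
  exact ⟨V y, hxy, flatAmplitude_mono (hA (Finset.mem_coe.2 (Finset.mem_image_of_mem a hy)))
    (hB _ (Finset.mem_image_of_mem b hy)) (hV y)⟩

theorem isPerfect_descends [Surjective f] [QuasiCompact f] [DCoh.HasLpull f] {E : DCoh.D X}
    (h : DCoh.IsPerfect ((DCoh.Lpull f).obj E)) : DCoh.IsPerfect E := by
  refine isPerfect_of_pc_locFlat (fun m => approx_descends f (Flat.isQuotientMap_of_surjective f)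
    (compactCovers_of_quasiCompact f) ((isPerfect_iff_approx.1 h).mono_set (Set.subset_univ _))) fun x => ?_
  obtain ⟨V, hV, hxV, -⟩ := exists_isAffineOpen_mem_and_subset (X := X) (x := x) (U := ⊤) trivial
  haveI := KFlat.Sch.hasLpull (f ∣_ V)
  haveI : Surjective (f ∣_ V) := IsZariskiLocalAtTarget.restrict ‹_› V
  haveI : CompactSpace (f ⁻¹ᵁ V : Scheme.{u}) :=
    isCompact_iff_compactSpace.1 (QuasiCompact.isCompact_preimage (f := f) _ V.2 hV.isCompact)
  obtain ⟨eV⟩ := nonempty_lpullResIso f V E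
  obtain ⟨a, b, hab⟩ := exists_flatAmplitude_of_compact
    (isPerfect_iff_approx.2 (((isPerfect_iff_approx.1 h).res (f ⁻¹ᵁ V)).of_iso eV))
  exact ⟨V, a, b, hxV, flatAmplitude_descends (f ∣_ V) hab⟩

end Groth.Agent.FlatDescD9
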