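import Groth.Agent.Lib.KFlat.TorCriterion
import Groth.Agent.Lib.KFlat.LpullTensor
import Groth.Agent.Lib.KFlat.PullbackKFlat
import Groth.Agent.Lib.KFlat.Symm
import Groth.Agent.Lib.H12.FlatComp
import Mathlib.RingTheory.Flat.FaithfullyFlat.Basic

/-!
Pullback along a flat surjective morphism reflects exactness; descent of flat amplitude.
-/

set_option autoImplicit false
set_option linter.unusedSectionVars false
set_option linter.style.haveILetI false
set_option backward.isDefEq.respectTransparency false
set_option backward.isDefEq.respectTransparency.types false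

universe u

open CategoryTheory CategoryTheory.Limits AlgebraicGeometry

attribute [local instance] HasDerivedCategory.standard

namespace Groth.Agent.FlatDescD9

open KFlat KFlat.Sch

variable {X Y : Scheme.{u}} (f : Y ⟶ X) [Flat f]

theorem exact_extendScalars_iff {R S : Type u} [CommRing R] [CommRing S] (φ : R →+* S)
    (h : φ.FaithfullyFlat) (T : ShortComplex (ModuleCat.{u} R)) :
    (T.map (ModuleCat.extendScalars φ)).Exact ↔ T.Exact := by
  letI := φ.toAlgebra
  haveI : Module.FaithfullyFlat R S := h
  rw [ShortComplex.ShortExact.moduleCat_exact_iff_function_exact,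
    ShortComplex.ShortExact.moduleCat_exact_iff_function_exact]
  exact Module.FaithfullyFlat.lTensor_exact_iff_exact R S T.f.hom T.g.hom

/-- Pullback along a flat morphism preserves exactness, and reflects it when surjective. -/
theorem exact_pullback_iff [Surjective f] (S : ShortComplex X.Modules) :
    (S.map (Scheme.Modules.pullback f)).Exact ↔ S.Exact := by
  have key : ∀ y : Y, ((S.map (Scheme.Modules.pullback f)).map (stF y)).Exact ↔ (S.map (stF (f y))).Exact :=
    fun y => (ShortComplex.exact_iff_of_iso (S.mapNatIso (pullStalkNatIso f y))).trans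
      (exact_extendScalars_iff _ (H12.faithfullyFlat_stalkMap f y (Flat.stalkMap f y)) (S.map (stF (f y))))
  rw [exact_iff_stF, exact_iff_stF]
  refine ⟨fun h x => ?_, fun h y => (key y).2 (h (f y))⟩
  obtain ⟨y, rfl⟩ := f.surjective x
  exact (key y).1 (h y)

theorem isAdapted_pullback {K : CochainComplex X.Modules ℤ} (hK : IsAdapted K) :
    IsAdapted (((Scheme.Modules.pullback f).mapHomologicalComplex (ComplexShape.up ℤ)).obj K) :=
  ⟨isKFlat_pullback f hK.1, (isKFlat_flip_iff' _).2 (isKFlat_pullback f hK.1),
    fun n => isFlat_pullback f (hK.2.2 n)⟩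

/-- Pullback commutes with tensoring by a module. -/
noncomputable def pullTensorRightIso (M : X.Modules) :
    DCoh.tensorRightMod M ⋙ Scheme.Modules.pullback f ≅
      Scheme.Modules.pullback f ⋙ DCoh.tensorRightMod ((Scheme.Modules.pullback f).obj M) :=
  Functor.isoWhiskerRight (tensorRightModIso M).symm _ ≪≫
    (NatIso.ofComponents (fun L => pullTensorIso₂ f L M)
      (fun {L L'} g => (natural_pullTensorIso₂ f).left g M) :
      (TX X).flip.obj M ⋙ Scheme.Modules.pullback f ≅
        Scheme.Modules.pullback f ⋙ (TX Y).flip.obj ((Scheme.Modules.pullback f).obj M)) ≪≫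
    Functor.isoWhiskerLeft _ (tensorRightModIso _)

/-- Flat amplitude descends along flat surjective morphisms. -/
theorem flatAmplitude_descends [Surjective f] [DCoh.HasLpull f] {E : DCoh.D X} {a b : ℤ}
    (h : DCoh.HasFlatAmplitudeIn a b ((DCoh.Lpull f).obj E)) : DCoh.HasFlatAmplitudeIn a b E := by
  obtain ⟨K₀, ⟨e₀⟩⟩ := Functor.EssSurj.mem_essImage (F := (DerivedCategory.Q :
    CochainComplex X.Modules ℤ ⥤ _)) E
  have hq := quasiIso_resπ (cover X) K₀
  let K := resObj (cover X) K₀
  let e : DCoh.toD X K ≅ E := asIso (DerivedCategory.Q.map (resπ (cover X) K₀)) ≪≫ e₀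
  have hK : IsAdapted K := isAdapted_resObj K₀
  let fK := ((Scheme.Modules.pullback f).mapHomologicalComplex (ComplexShape.up ℤ)).obj K
  let e' : DCoh.toD Y fK ≅ (DCoh.Lpull f).obj E := (lpullObjIso f K hK).symm ≪≫ (DCoh.Lpull f).mapIso e
  by_cases hab : a ≤ b
  · refine flatAmplitude_of_torAmplitude hab fun M _ i hi => ?_
    rw [isZero_HD_lTensorMod_iff M K hK e, HomologicalComplex.exactAt_iff, ← exact_pullback_iff f]
    haveI := hasLTensorMod ((Scheme.Modules.pullback f).obj M)
    have hY := (isZero_HD_lTensorMod_iff ((Scheme.Modules.pullback f).obj M) fK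
      (isAdapted_pullback f hK) e' i).1
      (torAmplitude_of_flatAmplitude h ((Scheme.Modules.pullback f).obj M) i hi)
    exact (ShortComplex.exact_iff_of_iso ((K.sc i).mapNatIso (pullTensorRightIso f M))).2
      ((HomologicalComplex.exactAt_iff _ _).1 hY)
  · obtain ⟨L, hL, -, ⟨eL⟩⟩ := h
    have hz : IsZero E := by
      rw [IsZero.iff_id_eq_zero, ← cancel_epi e.hom, Category.comp_id, comp_zero]
      refine IsZero.eq_of_src ?_ _ _
      have hac : K.Acyclic := fun i => by
        rw [HomologicalComplex.exactAt_iff, ← exact_pullback_iff f]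
        exact (HomologicalComplex.exactAt_iff fK i).1 ((isZero_HD_toD_iff fK i).1
          ((isZero_HD_iff_of_iso (e' ≪≫ eL.symm) i).2 ((isZero_HD_toD_iff L i).2
            ((HomologicalComplex.exactAt_iff _ _).2 (ShortComplex.exact_of_isZero_X₂ _ (hL i (by omega)))))))
      have hge : (DCoh.toD X K).IsGE 0 := (DerivedCategory.isGE_iff _ _).2 fun i _ => (isZero_HD_toD_iff K i).2 (hac i)
      have hle : (DCoh.toD X K).IsLE (-1) := (DerivedCategory.isLE_iff _ _).2 fun i _ => (isZero_HD_toD_iff K i).2 (hac i)
      exact DerivedCategory.TStructure.t.isZero (DCoh.toD X K) (-1) 0 (by omega)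
    obtain ⟨Z, hZ⟩ : ∃ Z : CochainComplex X.Modules ℤ, IsZero Z := HasZeroObject.zero
    have hZi : ∀ i, IsZero (Z.X i) := fun i => (HomologicalComplex.eval X.Modules (ComplexShape.up ℤ) i).map_isZero hZ
    exact ⟨Z, fun i _ => hZi i, fun i => (isFlat_iff _).1 (isFlat_of_isZero (hZi i)),
      ⟨(DerivedCategory.Q.map_isZero hZ).iso hz⟩⟩

end Groth.Agent.FlatDescD9
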