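import Groth.Agent.Lib.GenBound12.OpenFlat

/-!
Finite type descends along flat submersive surjective morphisms, for arbitrary modules.
-/

universe u

set_option linter.style.haveILetI false
set_option linter.unusedSectionVars false
set_option backward.isDefEq.respectTransparency false

open CategoryTheory Limits AlgebraicGeometry TopologicalSpace TensorProduct

namespace Groth.Agent.FlatDescD9

open Groth.Agent.M1 ModLimH13 QcohDesc12 GenBound12

variable {X Y : Scheme.{u}} (f : X ⟶ Y) [Flat f] (F : Y.Modules)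

/-- Spanning of the stalks of `F` propagates to the image of a neighbourhood upstairs. -/
theorem exists_span_nhd (h : CohB1.IsFT ((Scheme.Modules.pullback f).obj F)) {ι : Type u} [Finite ι]
    (V : Y.Opens) (t : ι → Γ(F, V)) (x : X) (hxV : f x ∈ V)
    (hspan0 : ∀ a : F.presheaf.stalk (f x), a ∈ Submodule.span (Y.presheaf.stalk (f x))
      (Set.range fun i => F.presheaf.germ V (f x) hxV (t i))) :
    ∃ W : X.Opens, x ∈ W ∧ ∀ z ∈ W, ∃ hz : f z ∈ V, ∀ a : F.presheaf.stalk (f z),
      a ∈ Submodule.span (Y.presheaf.stalk (f z)) (Set.range fun i => F.presheaf.germ V (f z) hz (t i)) := by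
  classical
  let G := (Scheme.Modules.pullback f).obj F
  obtain ⟨U, hxU, σ, hσ⟩ := (isFT_iff_generators G).mp h x
  haveI := hσ
  haveI : Epi σ.π := σ.epi
  obtain ⟨O, hxO, s, hs⟩ := genAt_of_epi G U hxU σ.π (Finite.equivFin σ.I).toEmbedding
  have hb := M2.isBaseChange_stalkUnit f x F
  let t' : ι → Γ(G, O ⊓ f ⁻¹ᵁ V) := fun a => res' f F inf_le_right (t a)
  have hx' : x ∈ O ⊓ f ⁻¹ᵁ V := ⟨hxO, hxV⟩
  have hbase : ∀ b : G.presheaf.stalk x, b ∈ Submodule.span (X.presheaf.stalk x)
      (Set.range fun i => G.presheaf.germ _ x hx' (t' i)) := fun b => by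
    induction b using hb.inductionOn with
    | tmul m =>
      induction hspan0 m using Submodule.span_induction with
      | mem y hy =>
        obtain ⟨i, rfl⟩ := hy
        exact Submodule.subset_span ⟨i, germ_res' f F inf_le_right (t i) x hx'⟩
      | zero => rw [map_zero]; exact Submodule.zero_mem _
      | add a b _ _ ha hb => rw [map_add]; exact Submodule.add_mem _ ha hb
      | smul c a _ ha =>
        rw [map_smul, ← algebraMap_smul (X.presheaf.stalk x) c]
        exact Submodule.smul_mem _ _ ha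
    | smul r m hm => exact Submodule.smul_mem _ r hm
    | zero => exact Submodule.zero_mem _
    | add a b ha hb => exact Submodule.add_mem _ ha hb
  have hnear : ∀ l, ∃ (W : X.Opens) (hW : W ≤ O ⊓ f ⁻¹ᵁ V), x ∈ W ∧
      mres G (hW.trans inf_le_left) (s l) ∈ Submodule.span Γ(X, W) (Set.range fun a => mres G hW (t' a)) := by
    intro l
    obtain ⟨W, hW, hxW, m, hm, hspan⟩ := exists_of_mem_span_germ G hx' t'
      (a := G.presheaf.germ O x hxO (s l)) (hbase _)
    obtain ⟨W', hxW', i₁, i₂, he⟩ := G.presheaf.germ_eq x hxW hxO m (s l) hm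
    refine ⟨W', i₁.le.trans hW, hxW', ?_⟩
    rw [show mres G ((i₁.le.trans hW).trans inf_le_left) (s l) = mres G i₁.le m from he.symm]
    exact mres_mem_span G hW i₁.le t' hspan
  choose W₁ hW₁ hxW₁ hspan using hnear
  obtain ⟨W, hxW, hWle, hWl⟩ : ∃ W : X.Opens, x ∈ W ∧ W ≤ O ⊓ f ⁻¹ᵁ V ∧ ∀ l, W ≤ W₁ l :=
    ⟨(O ⊓ f ⁻¹ᵁ V) ⊓ ⟨⋂ l, (W₁ l : Set X), isOpen_iInter_of_finite fun l => (W₁ l).2⟩,
      ⟨hx', Set.mem_iInter.2 hxW₁⟩, inf_le_left, fun l => inf_le_right.trans fun _ hz => Set.mem_iInter.1 hz l⟩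
  have hsW : ∀ l, mres G (hWle.trans inf_le_left) (s l) ∈
      Submodule.span Γ(X, W) (Set.range fun a => mres G hWle (t' a)) := fun l => by
    have h1 := mres_mem_span G (hW₁ l) (hWl l) t' (hspan l)
    rwa [mres_mres] at h1
  have hstalkY : ∀ (z : X) (hz : z ∈ W) (a : F.presheaf.stalk (f z)),
      a ∈ Submodule.span (Y.presheaf.stalk (f z))
        (Set.range fun i => F.presheaf.germ V (f z) ((hWle hz).2) (t i)) := by
    intro z hz a
    haveI : Module.Flat (Y.presheaf.stalk (f z)) (X.presheaf.stalk z) := Flat.stalkMap f z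
    haveI : IsLocalHom (algebraMap (Y.presheaf.stalk (f z)) (X.presheaf.stalk z)) :=
      inferInstanceAs (IsLocalHom (f.stalkMap z).hom)
    haveI := Module.FaithfullyFlat.of_flat_of_isLocalHom (A := Y.presheaf.stalk (f z)) (B := X.presheaf.stalk z)
    refine mem_of_baseChange (M2.stalkUnit f z F) (M2.isBaseChange_stalkUnit f z F) _ a ?_
    have h1 : ∀ b : G.presheaf.stalk z, b ∈ Submodule.span (X.presheaf.stalk z)
        (Set.range fun i => G.presheaf.germ _ z (hWle hz) (t' i)) := fun b => by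
      obtain ⟨V', hV', c, rfl⟩ := G.presheaf.exists_germ_eq b
      obtain ⟨W', hV'', hO, hzW', hm⟩ := hs z (hWle hz).1 V' hV' c
      rw [← germ_mres G hV'' hzW']
      refine Submodule.span_le.2 ?_ (germ_mem_span G hO hzW' s hm)
      rintro _ ⟨l, rfl⟩
      show G.presheaf.germ O z _ (s l) ∈ _
      rw [← germ_mres G (hWle.trans inf_le_left) hz (s l)]
      exact germ_mem_span G hWle hz t' (hsW l)
    refine Submodule.span_mono ?_ (h1 (M2.stalkUnit f z F a))
    rintro _ ⟨i, rfl⟩
    refine ⟨F.presheaf.germ V (f z) ((hWle hz).2) (t i), Submodule.subset_span ⟨i, rfl⟩, ?_⟩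
    exact (germ_res' f F inf_le_right (t i) z (hWle hz)).symm
  exact ⟨W, hxW, fun z hz => ⟨(hWle hz).2, hstalkY z hz⟩⟩

/-- Finite type descends along flat surjective submersive morphisms. -/
theorem isFT_descends [Surjective f] (hq : Topology.IsQuotientMap f)
    (h : CohB1.IsFT ((Scheme.Modules.pullback f).obj F)) : CohB1.IsFT F := by
  refine (isFT_iff_generators F).2 fun y => ?_
  classical
  obtain ⟨x, rfl⟩ := f.surjective y
  let G := (Scheme.Modules.pullback f).obj F
  obtain ⟨U, hxU, σ, hσ⟩ := (isFT_iff_generators G).mp h x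
  haveI := hσ
  haveI : Epi σ.π := σ.epi
  obtain ⟨O, hxO, s, hs⟩ := genAt_of_epi G U hxU σ.π (Finite.equivFin σ.I).toEmbedding
  have hb := M2.isBaseChange_stalkUnit f x F
  have hstalk : ∀ l, G.presheaf.germ O x hxO (s l) ∈
      Submodule.span (X.presheaf.stalk x) (Set.range (M2.stalkUnit f x F)) := fun l => by
    induction G.presheaf.germ O x hxO (s l) using hb.inductionOn with
    | tmul m => exact Submodule.subset_span ⟨m, rfl⟩
    | smul r m hm => exact Submodule.smul_mem _ r hm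
    | zero => exact Submodule.zero_mem _
    | add a b ha hb => exact Submodule.add_mem _ ha hb
  choose T hT hTl using fun l => Submodule.mem_span_finite_of_mem_span (hstalk l)
  let T' := Finset.univ.biUnion T
  have hT' : ∀ a : T', ∃ (V : Y.Opens) (hV : f x ∈ V) (t : Γ(F, V)),
      M2.stalkUnit f x F (F.presheaf.germ V (f x) hV t) = a.1 := by
    rintro ⟨a, ha⟩
    obtain ⟨l, -, hal⟩ := Finset.mem_biUnion.1 ha
    obtain ⟨m, rfl⟩ := hT l hal
    obtain ⟨V, hV, t, rfl⟩ := F.presheaf.exists_germ_eq m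
    exact ⟨V, hV, t, rfl⟩
  choose V₀ hV₀ t₀ ht₀ using hT'
  obtain ⟨V, hVx, hVle⟩ : ∃ V : Y.Opens, f x ∈ V ∧ ∀ a, V ≤ V₀ a :=
    ⟨⟨⋂ a, (V₀ a : Set Y), isOpen_iInter_of_finite fun a => (V₀ a).2⟩, Set.mem_iInter.2 hV₀,
      fun a => Set.iInter_subset _ a⟩
  let t : T' → Γ(F, V) := fun a => mres F (hVle a) (t₀ a)
  haveI : Module.Flat (Y.presheaf.stalk (f x)) (X.presheaf.stalk x) := Flat.stalkMap f x
  haveI : IsLocalHom (algebraMap (Y.presheaf.stalk (f x)) (X.presheaf.stalk x)) :=
    inferInstanceAs (IsLocalHom (f.stalkMap x).hom)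
  haveI := Module.FaithfullyFlat.of_flat_of_isLocalHom (A := Y.presheaf.stalk (f x)) (B := X.presheaf.stalk x)
  have hspan0 : ∀ a : F.presheaf.stalk (f x), a ∈ Submodule.span (Y.presheaf.stalk (f x))
      (Set.range fun i => F.presheaf.germ V (f x) hVx (t i)) := fun a => by
    refine mem_of_baseChange (M2.stalkUnit f x F) hb _ a ?_
    have h1 : ∀ b : G.presheaf.stalk x, b ∈ Submodule.span (X.presheaf.stalk x) (T' : Set (G.presheaf.stalk x)) :=
      fun b => by
        obtain ⟨V', hV', c, rfl⟩ := G.presheaf.exists_germ_eq b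
        obtain ⟨W', hV'', hO, hxW', hm⟩ := hs x hxO V' hV' c
        rw [← germ_mres G hV'' hxW']
        refine Submodule.span_le.2 ?_ (germ_mem_span G hO hxW' s hm)
        rintro _ ⟨l, rfl⟩
        exact Submodule.span_mono (fun a ha => Finset.mem_biUnion.2 ⟨l, Finset.mem_univ _, ha⟩) (hTl l)
    refine Submodule.span_mono ?_ (h1 (M2.stalkUnit f x F a))
    intro b hb
    refine ⟨F.presheaf.germ V (f x) hVx (t ⟨b, hb⟩), Submodule.subset_span ⟨⟨b, hb⟩, rfl⟩, ?_⟩
    show M2.stalkUnit f x F (F.presheaf.germ V (f x) hVx (mres F (hVle _) (t₀ ⟨b, hb⟩))) = b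
    rw [germ_mres]
    exact ht₀ ⟨b, hb⟩
  let S : Set Y := {z | ∃ hz : z ∈ V, ∀ a : F.presheaf.stalk z,
    a ∈ Submodule.span (Y.presheaf.stalk z) (Set.range fun i => F.presheaf.germ V z hz (t i))}
  have hS : IsOpen S := by
    rw [← hq.isOpen_preimage, isOpen_iff_forall_mem_open]
    rintro z ⟨hz, hsp⟩
    obtain ⟨W, hzW, hW⟩ := exists_span_nhd f F h V t z hz hsp
    exact ⟨W, fun w hw => hW w hw, W.2, hzW⟩
  let V' : Y.Opens := ⟨S, hS⟩
  have hV'V : V' ≤ V := fun z hz => hz.1
  have hgen : GenAt F (Nat.card T') (f x) := by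
    refine ⟨V', ⟨hVx, hspan0⟩, fun i => mres F hV'V (t ((Finite.equivFin T').symm i)), ?_⟩
    rintro z hzV' V'' hzV'' c
    obtain ⟨W', hW', hzW', m, hm, hmspan⟩ := exists_of_mem_span_germ F hzV'
      (fun i => mres F hV'V (t ((Finite.equivFin T').symm i)))
      (a := F.presheaf.germ V'' z hzV'' c) (by
        refine Submodule.span_mono ?_ (hzV'.2 _)
        rintro _ ⟨i, rfl⟩
        refine ⟨Finite.equivFin T' i, ?_⟩
        dsimp only
        rw [Equiv.symm_apply_apply, germ_mres])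
    obtain ⟨W'', hzW'', i₁, i₂, he⟩ := F.presheaf.germ_eq z hzW' hzV'' m c hm
    refine ⟨W'', i₂.le, i₁.le.trans hW', hzW'', ?_⟩
    rw [show mres F i₂.le c = mres F i₁.le m from he.symm]
    exact mres_mem_span F hW' i₁.le _ hmspan
  obtain ⟨O', σ', hO', hfin, -⟩ := exists_generators hgen
  exact ⟨O', hO', σ', hfin⟩

end Groth.Agent.FlatDescD9
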