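import Groth.Agent.Lib.FlatDescD9.Exact
import Groth.Agent.Lib.FlatDescD9.FT
import Groth.Agent.Lib.DPerf.Noeth
import Groth.Agent.Lib.KFlat.LpullPC
import Groth.Agent.Lib.DQC.TestMod

/-!
Pseudo-coherence and perfectness descend along flat surjective submersive morphisms.
-/

set_option autoImplicit false
set_option linter.unusedSectionVars false
set_option linter.style.haveILetI false
set_option backward.isDefEq.respectTransparency false
set_option backward.isDefEq.respectTransparency.types false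

universe u

open CategoryTheory CategoryTheory.Limits CategoryTheory.Pretriangulated AlgebraicGeometry

attribute [local instance] HasDerivedCategory.standard

namespace Groth.Agent.FlatDescD9

open KFlat KFlat.Sch DPerf

variable {X Y : Scheme.{u}} (f : Y ⟶ X) [Flat f]

theorem exact_stalk_pullback_iff (S : ShortComplex X.Modules) (y : Y) :
    ((S.map (Scheme.Modules.pullback f)).map (stF y)).Exact ↔ (S.map (stF (f y))).Exact :=
  (ShortComplex.exact_iff_of_iso (S.mapNatIso (pullStalkNatIso f y))).trans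
    (exact_extendScalars_iff _ (H12.faithfullyFlat_stalkMap f y (Flat.stalkMap f y)) (S.map (stF (f y))))

theorem preservesFiniteLimits_pullback : PreservesFiniteLimits (Scheme.Modules.pullback f) :=
  (((Functor.exact_tfae (Scheme.Modules.pullback f)).out 1 3 :
      (∀ S : ShortComplex X.Modules, S.Exact → (S.map (Scheme.Modules.pullback f)).Exact) ↔
        PreservesFiniteLimits (Scheme.Modules.pullback f) ∧
          PreservesFiniteColimits (Scheme.Modules.pullback f)).1 fun S hS => (exact_iff_stF _).2 fun y =>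
    (exact_stalk_pullback_iff f S y).2 ((exact_iff_stF S).1 hS (f y))).1

/-- Cohomology commutes with flat pullback. -/
theorem nonempty_hdLpullIso [DCoh.HasLpull f] (E : DCoh.D X) (i : ℤ) :
    Nonempty (DCoh.HD ((DCoh.Lpull f).obj E) i ≅ (Scheme.Modules.pullback f).obj (DCoh.HD E i)) := by
  haveI := preservesFiniteLimits_pullback f
  obtain ⟨R, hR, ⟨eR⟩⟩ := exists_adapted_rep E
  exact ⟨(DerivedCategory.homologyFunctor Y.Modules i).mapIso
      ((DCoh.Lpull f).mapIso eR.symm ≪≫ lpullObjIso f R hR) ≪≫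
    (DerivedCategory.homologyFunctorFactors Y.Modules i).app _ ≪≫
    (R.sc i).mapHomologyIso (Scheme.Modules.pullback f) ≪≫
    (Scheme.Modules.pullback f).mapIso
      (((DerivedCategory.homologyFunctorFactors X.Modules i).app R).symm ≪≫
        (DerivedCategory.homologyFunctor X.Modules i).mapIso eR)⟩

/-- A module whose pullback vanishes vanishes at the image points. -/
theorem isZero_stalk_of_pullback {M : X.Modules} (h : IsZero ((Scheme.Modules.pullback f).obj M)) (y : Y) :
    ((ShortComplex.mk (0 : M ⟶ M) (0 : M ⟶ M) comp_zero).map (stF (f y))).Exact :=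
  (exact_stalk_pullback_iff f _ y).1 ((exact_iff_stF _).1 (ShortComplex.exact_of_isZero_X₂ _ h) y)

theorem isZero_of_stalks {M : X.Modules}
    (h : ∀ x : X, ((ShortComplex.mk (0 : M ⟶ M) (0 : M ⟶ M) comp_zero).map (stF x)).Exact) : IsZero M :=
  ((exact_iff_stF _).2 h).isZero_of_both_zeros rfl rfl

theorem nonempty_lpullResIso [DCoh.HasLpull f] (V : X.Opens) [DCoh.HasLpull (f ∣_ V)] (E : DCoh.D X) :
    Nonempty ((resD (f ⁻¹ᵁ V).ι).obj ((DCoh.Lpull f).obj E) ≅
      (DCoh.Lpull (f ∣_ V)).obj ((resD V.ι).obj E)) := by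
  obtain ⟨R, hR, ⟨eR⟩⟩ := exists_adapted_rep E
  obtain ⟨F', ⟨e'⟩⟩ := Functor.EssSurj.mem_essImage
    (F := (DerivedCategory.Q : CochainComplex Y.Modules ℤ ⥤ _)) ((DCoh.Lpull f).obj E)
  exact ⟨(resD _).mapIso e'.symm ≪≫ (resFac _).app F' ≪≫ restrictLpullIso f V hR eR e' ≪≫
    (DCoh.Lpull (f ∣_ V)).mapIso (((resFac V.ι).app R).symm ≪≫ (resD V.ι).mapIso eR)⟩

theorem approx_univ_of_isStrictlyPerfect {P : CochainComplex X.Modules ℤ} (hP : DCoh.IsStrictlyPerfect P) :
    Approx Set.univ (DCoh.toD X P) := fun x =>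
  ⟨X, 𝟙 X, inferInstance, ⟨x, rfl⟩, (resX (𝟙 X)).obj P, isStrictlyPerfect_res _ hP,
    (resFac (𝟙 X)).inv.app P, dcond_of_isIso _⟩

/-- The top cohomology of a pseudo-coherent object is of finite type. -/
theorem isFT_top {K : DCoh.D X} {m b : ℤ} (hK : Approx (Set.Ici m) K) (hmb : m ≤ b)
    (hb : ∀ i, b < i → IsZero (DCoh.HD K i)) : CohB1.IsFT (DCoh.HD K b) := by
  choose V hxV hV using hK.exists_opens
  refine M1.isFT_of_openImmersion_cover (fun x => (V x).ι) (fun x => ⟨x, ⟨⟨x, hxV x⟩, rfl⟩⟩) fun x => ?_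
  obtain ⟨E, hE, α, hα⟩ := hV x _ le_rfl
  have hz : ∀ i, b < i → E.ExactAt i := fun i hi => by
    refine (isZero_HD_toD_iff E i).1 ?_
    have := (hα (i - 1) (show m ≤ i - 1 by omega)).2
    rw [sub_add_cancel] at this
    exact IsZero.of_mono ((DerivedCategory.homologyFunctor _ i).map α)
      (((Scheme.Modules.restrictFunctor (V x).ι).map_isZero (hb i hi)).of_iso (hdResIso (V x).ι K i))
  have h1 : CohB1.IsFT (DCoh.HD (DCoh.toD (V x : Scheme.{u}) E) b) :=
    M1.isFT_of_isIso ((DerivedCategory.homologyFunctorFactors _ b).app E).symm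
      (M1.isFP_isFT (isFP_homology_top hE b hz))
  have := (hα b hmb).1
  exact M1.isFT_of_isIso (hdResIso (V x).ι K b)
    (M1.isFT_of_epi ((DerivedCategory.homologyFunctor _ b).map α) h1)

theorem approx_descends_aux (m : ℤ) : ∀ (k : ℕ) {X Y : Scheme.{u}} (f : Y ⟶ X) [Flat f] [Surjective f]
    [DCoh.HasLpull f] (_ : Topology.IsQuotientMap f) (E : DCoh.D X)
    (_ : ∀ i, m + k ≤ i → IsZero (DCoh.HD E i)) (_ : Approx (Set.Ici m) ((DCoh.Lpull f).obj E)),
    Approx (Set.Ici m) E := by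
  intro k
  induction k with
  | zero => exact fun f _ _ _ _ E hz _ => approx_of_isZero_HD fun i hi => hz i (by simpa using hi)
  | succ k ih =>
    intro X Y f _ _ _ hq E hz hpc
    let t := (DerivedCategory.TStructure.t : Triangulated.TStructure (DCoh.D X))
    obtain ⟨b, hb⟩ : ∃ b : ℤ, b = m + k := ⟨_, rfl⟩
    have hzb : ∀ i, b < i → IsZero (DCoh.HD E i) := fun i hi => hz i (by push_cast; omega)
    have hFT : CohB1.IsFT (DCoh.HD E b) := by
      obtain ⟨e⟩ := nonempty_hdLpullIso f E b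
      exact isFT_descends f _ hq (M1.isFT_of_isIso e
        (isFT_top hpc (by omega) fun i hi => isZero_HD_lpull f E b hzb i hi))
    have h₁ : DerivedCategory.IsLE ((t.truncLT b).obj E) (b - 1) :=
      (inferInstance : t.IsLE ((t.truncLT b).obj E) (b - 1))
    have h₂ : DerivedCategory.IsGE ((t.truncGE b).obj E) b :=
      (inferInstance : t.IsGE ((t.truncGE b).obj E) b)
    have hπ := fun i (hi : b ≤ i) => DerTrunc.isIso_homology_truncGEπ E b i hi
    have : DerivedCategory.IsLE ((t.truncGE b).obj E) b := (DerivedCategory.isLE_iff _ b).2 fun i hi =>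
      have := hπ i hi.le
      (hzb i hi).of_iso (asIso ((DerivedCategory.homologyFunctor _ i).map ((t.truncGEπ b).app E))).symm
    obtain ⟨M, ⟨e⟩, ⟨e'⟩⟩ := exists_single_of_concentrated (K := (t.truncGE b).obj E) b
    have := hπ b le_rfl
    have hM : CohB1.IsFT M := M1.isFT_of_isIso (e' ≪≫
      (asIso ((DerivedCategory.homologyFunctor _ b).map ((t.truncGEπ b).app E))).symm).symm hFT
    have hEb : Approx (Set.Ici b) E :=
      approx_Ici₂ b _ (t.triangleLTGE_distinguished b E)
        (approx_of_isZero_HD fun i hi =>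
          DerivedCategory.isZero_of_isLE ((t.truncLT b).obj E) (b - 1) i (by omega))
        ((((approx_inD_of_isFT hM).of_iso e.symm).shift_Ici (-b) b (by omega)).of_iso
          ((shiftEquiv (DCoh.D X) b).unitIso.app _).symm)
    refine Approx.of_locally fun x => ?_
    obtain ⟨V, hxV, hV⟩ := hEb.exists_opens x
    obtain ⟨P, hP, α, hα⟩ := hV V le_rfl
    obtain ⟨C, g, h, hT⟩ := distinguished_cocone_triangle α
    haveI := KFlat.Sch.hasLpull (f ∣_ V)
    haveI : Surjective (f ∣_ V) := IsZariskiLocalAtTarget.restrict ‹_› V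
    have hqV : Topology.IsQuotientMap (f ∣_ V) := by
      rw [morphismRestrict_base]
      exact hq.restrictPreimage_isOpen V.2
    obtain ⟨T', hT', e₁, e₂, e₃, -⟩ := exists_triangle_lpull (f ∣_ V) (Triangle.mk α g h) hT
    obtain ⟨eV⟩ := nonempty_lpullResIso f V E
    have hP' : Approx Set.univ ((DCoh.Lpull (f ∣_ V)).obj (DCoh.toD _ P)) :=
      isPerfect_iff_approx.1 (isPerfect_lpull _ (isPerfect_iff_approx.2 (approx_univ_of_isStrictlyPerfect hP)))
    have hC : Approx (Set.Ici m) ((DCoh.Lpull (f ∣_ V)).obj C) :=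
      (approx_Ici₃ m T' hT' ((hP'.of_iso e₁.symm).mono_set (Set.subset_univ _))
        (((hpc.res _).of_iso eV).of_iso e₂.symm)).of_iso e₃
    have hCz : ∀ i, m + k ≤ i → IsZero (DCoh.HD C i) := fun i hi =>
      isZero_homology_of_dcond hT hα (show b ≤ i by omega)
    exact ⟨V, hxV, approx_Ici₂ m _ hT ((approx_univ_of_isStrictlyPerfect hP).mono_set (Set.subset_univ _))
      (ih (f ∣_ V) hqV C hCz hC)⟩

/-- Every point of the base has a neighbourhood in the image of a quasi-compact subset. -/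
def CompactCovers : Prop :=
  ∀ x : X, ∃ (V : X.Opens) (K : Set Y), x ∈ V ∧ IsCompact K ∧ (V : Set X) ⊆ f '' K

theorem compactCovers_of_quasiCompact [Surjective f] [QuasiCompact f] : CompactCovers f := fun x => by
  obtain ⟨V, hV, hxV, -⟩ := exists_isAffineOpen_mem_and_subset (X := X) (x := x) (U := ⊤) trivial
  refine ⟨V, f ⁻¹' V, hxV, QuasiCompact.isCompact_preimage (f := f) _ V.2 hV.isCompact, ?_⟩
  exact (Set.image_preimage_eq _ f.surjective).ge

theorem compactCovers_of_isOpenMap [Surjective f] (hf : IsOpenMap f) : CompactCovers f := fun x => by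
  obtain ⟨y, rfl⟩ := f.surjective x
  obtain ⟨W, hW, hyW, -⟩ := exists_isAffineOpen_mem_and_subset (X := Y) (x := y) (U := ⊤) trivial
  exact ⟨⟨f '' W, hf _ W.2⟩, W, ⟨y, hyW, rfl⟩, hW.isCompact, subset_rfl⟩

/-- Pseudo-coherence descends. -/
theorem approx_descends [Surjective f] [DCoh.HasLpull f] (hq : Topology.IsQuotientMap f)
    (hc : CompactCovers f) {E : DCoh.D X} {m : ℤ} (hpc : Approx (Set.Ici m) ((DCoh.Lpull f).obj E)) :
    Approx (Set.Ici m) E := by
  refine Approx.of_locally fun x => ?_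
  obtain ⟨V, K, hxV, hK, hVK⟩ := hc x
  refine ⟨V, hxV, ?_⟩
  have hloc : ∀ y : Y, ∃ (W : Y.Opens) (b : ℤ), y ∈ W ∧
      ∀ i, b < i → IsZero (DCoh.HD ((resD W.ι).obj ((DCoh.Lpull f).obj E)) i) := fun y => by
    obtain ⟨W, hyW, hW⟩ := hpc.exists_opens y
    obtain ⟨P, hP, α, hα⟩ := hW W le_rfl
    obtain ⟨⟨a, b, hv⟩, -⟩ := hP
    exact ⟨W, max m b, hyW, fun i hi =>
      isZero_HD_of_dcond hα (fun j hj => hv j (Or.inr hj)) (by omega) (by omega)⟩
  choose W b hyW hW using hloc
  obtain ⟨s, hs⟩ := hK.elim_finite_subcover (fun y => (W y : Set Y)) (fun y => (W y).2)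
    fun y _ => Set.mem_iUnion.2 ⟨y, hyW y⟩
  obtain ⟨B, hB⟩ := (s.image b).exists_le
  haveI := KFlat.Sch.hasLpull (f ∣_ V)
  haveI : Surjective (f ∣_ V) := IsZariskiLocalAtTarget.restrict ‹_› V
  obtain ⟨eV⟩ := nonempty_lpullResIso f V E
  refine approx_descends_aux m (B + 1 - m).toNat (f ∣_ V) ?_ _ (fun i hi => ?_)
    ((hpc.res _).of_iso eV)
  · rw [morphismRestrict_base]
    exact hq.restrictPreimage_isOpen V.2
  refine IsZero.of_iso (isZero_of_stalks fun v => ?_) (hdResIso V.ι E i)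
  obtain ⟨y, hyK, hy⟩ := hVK v.2
  obtain ⟨y₀, hy₀, hyW₀⟩ := Set.mem_iUnion₂.1 (hs hyK)
  haveI := KFlat.Sch.hasLpull (W y₀).ι
  let F := DCoh.HD E i
  have hF : IsZero ((Scheme.Modules.pullback ((W y₀).ι ≫ f)).obj F) := by
    obtain ⟨e⟩ := nonempty_hdLpullIso f E i
    refine IsZero.of_iso ?_ ((Scheme.Modules.pullbackComp (W y₀).ι f).app F).symm
    refine IsZero.of_iso ?_ (((Scheme.Modules.restrictFunctorIsoPullback (W y₀).ι).app _).symm ≪≫
      (Scheme.Modules.restrictFunctor (W y₀).ι).mapIso e.symm)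
    exact (hW y₀ i (by have := hB (b y₀) (Finset.mem_image_of_mem b hy₀); omega)).of_iso
      (hdResIso (W y₀).ι _ i).symm
  have hFv := isZero_stalk_of_pullback ((W y₀).ι ≫ f) hF ⟨y, hyW₀⟩
  have hv : ((W y₀).ι ≫ f) ⟨y, hyW₀⟩ = V.ι v := hy
  rw [hv] at hFv
  have h3 := (exact_stalk_pullback_iff V.ι (ShortComplex.mk (0 : F ⟶ F) 0 comp_zero) v).2 hFv
  let e := (Scheme.Modules.restrictFunctorIsoPullback V.ι).app F
  let S : ShortComplex.mk (0 : F.restrict V.ι ⟶ F.restrict V.ι) 0 comp_zero ≅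
      (ShortComplex.mk (0 : F ⟶ F) 0 comp_zero).map (Scheme.Modules.pullback V.ι) :=
    ShortComplex.isoMk e e e (by simp) (by simp)
  exact (ShortComplex.exact_iff_of_iso ((stF v).mapShortComplex.mapIso S)).2 h3

end Groth.Agent.FlatDescD9
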